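import Cfsg.Agent.Lib.FusionSystem.DoubleCoverEleven.Main
import Cfsg.Agent.Lib.Sporadic.LyCent.Classes
import Cfsg.Prelude.Def_Spor_Ly

/-!
The Lyons group satisfies the hypotheses of the degree eleven double cover criterion once it is simple of its
known order.
-/

set_option autoImplicit false
set_option linter.style.haveILetI false

namespace CfsgLib.Fsys.DoubleCoverEleven

open CfsgLib.Sporadic.CosetCert CfsgLib.Sporadic.CosetCert.LyCent Equiv

attribute [local irreducible] rep vv V W

theorem exists_setup (hLy : Cfsg.IsLy LyG2Five.LyP) : Nonempty (Setup LyG2Five.LyP) := by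
  haveI := Fact.mk Nat.prime_two
  obtain ⟨f, hf, hker, hcyc⟩ := exists_proj hLy
  have hnat : ∀ c : CT, (f c : Perm (Fin 11)) = 1 ↔ f c = 1 := fun c => OneMemClass.coe_eq_one
  refine ⟨{ t := T
            pr := (alternatingGroup (Fin 11)).subtype.comp f
            ord := orderOf_eq_prime (by rw [pow_two]; exact T_sq) T_ne
            range_eq := by
              rw [MonoidHom.range_comp, MonoidHom.range_eq_top.2 hf, ← MonoidHom.range_eq_map, Subgroup.range_subtype]
            ker_iff := fun c => (hnat c).trans (hker c)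
            four := fun c hc => sq_four hLy hf hker hcyc hc
            eight := fun c hc => ?_
            conj := fun x hx => all_conj hLy hx }⟩
  obtain ⟨j1, j2, j3, j4⟩ := j0_spec
  let J : CT := ⟨LyIndex.gE j0, Subgroup.mem_centralizer_singleton_iff.2 (by rw [T, ← map_mul, ← map_mul, j4])⟩
  have hJJ : J * J = 1 := Subtype.ext (by
    show LyIndex.gE j0 * LyIndex.gE j0 = 1
    rw [← map_mul, j1, map_one])
  have hJ : (f J : Perm (Fin 11)).cycleType = Multiset.replicate 4 2 :=
    invol_type hLy hf hker hcyc (u := J) (congrArg Subtype.val hJJ)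
      (fun e => j2 (gE_injective (e.trans (map_one _).symm))) (fun e => j3 (gE_injective e))
  obtain ⟨g, hg⟩ := alt_conj' (x := f J) (y := f c) (Or.inr hJ) (hJ.trans hc.symm)
  obtain ⟨d, rfl⟩ := hf g
  have hsq : (d * J * d⁻¹) * (d * J * d⁻¹) = 1 := by
    rw [show d * J * d⁻¹ * (d * J * d⁻¹) = d * (J * J) * d⁻¹ by group, hJJ]; group
  rcases proj_eq hker (a := c) (b := d * J * d⁻¹) (by rw [map_mul, map_mul, map_inv, hg]) with e | e <;> rw [e]
  · exact congrArg Subtype.val hsq
  · have hb : ((d * J * d⁻¹ : CT) : LyG2Five.LyP) * T = T * (d * J * d⁻¹ : CT) :=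
      Subgroup.mem_centralizer_singleton_iff.1 (Subtype.prop _)
    have hsq' : ((d * J * d⁻¹ : CT) : LyG2Five.LyP) * (d * J * d⁻¹ : CT) = 1 := congrArg Subtype.val hsq
    generalize ((d * J * d⁻¹ : CT) : LyG2Five.LyP) = b at hb hsq' ⊢
    calc b * T * (b * T) = b * (T * b) * T := by group
      _ = b * b * (T * T) := by rw [← hb]; group
      _ = 1 := by rw [hsq', T_sq, mul_one]

/-- Transport along an isomorphism. -/
theorem exists_setup_congr {G H : Type*} [Group G] [Group H] (e : G ≃* H) (D : Setup H) : Nonempty (Setup G) := by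
  let φ : Subgroup.centralizer ({e.symm D.t} : Set G) →* Subgroup.centralizer ({D.t} : Set H) :=
    { toFun := fun c => ⟨e c, Subgroup.mem_centralizer_singleton_iff.2 (by
        have h := congrArg e (Subgroup.mem_centralizer_singleton_iff.1 c.2)
        simpa using h)⟩
      map_one' := Subtype.ext (map_one e)
      map_mul' := fun a b => Subtype.ext (map_mul e _ _) }
  have hφ : Function.Surjective φ := fun c =>
    ⟨⟨e.symm c, Subgroup.mem_centralizer_singleton_iff.2 (by
      rw [← map_mul, ← map_mul, Subgroup.mem_centralizer_singleton_iff.1 c.2])⟩,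
      Subtype.ext (e.apply_symm_apply _)⟩
  have key : ∀ {c : Subgroup.centralizer ({e.symm D.t} : Set G)} {y : H}, e (c : G) * e c = y →
      (c : G) * c = e.symm y := fun {c y} h => by rw [← h, map_mul, e.symm_apply_apply]
  refine ⟨{ t := e.symm D.t
            pr := D.pr.comp φ
            ord := by rw [MulEquiv.orderOf_eq, D.ord]
            range_eq := by rw [MonoidHom.range_comp, MonoidHom.range_eq_top.2 hφ, ← MonoidHom.range_eq_map, D.range_eq]
            ker_iff := fun c => ?_
            four := fun c hc => key (D.four (φ c) hc)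
            eight := fun c hc => (key (D.eight (φ c) hc)).trans (map_one e.symm)
            conj := fun x hx => ?_ }⟩
  · rw [MonoidHom.comp_apply, D.ker_iff]
    show e c = 1 ∨ e c = D.t ↔ _
    rw [EmbeddingLike.map_eq_one_iff, ← e.eq_symm_apply]
  · have := e.symm.toMonoidHom.map_isConj (D.conj (e x) (by rw [MulEquiv.orderOf_eq, hx]))
    simpa using this

theorem ly_simple (hLy : Cfsg.IsLy LyG2Five.LyP) {G : Type*} [Group G] [Finite G] (hG : Cfsg.Spor.IsoLy G)
    (S : Sylow 2 G) : (Cfsg.groupFusionSystem (S : Subgroup G)).IsSimple 2 := by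
  obtain ⟨e⟩ := hG
  obtain ⟨D⟩ := exists_setup hLy
  obtain ⟨D'⟩ := exists_setup_congr e D
  exact D'.isSimple S

end CfsgLib.Fsys.DoubleCoverEleven
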