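import Cfsg.Agent.Lib.FusionSystem.DoubleCoverEleven.Tree
import Cfsg.Agent.Lib.FusionSystem.GroupSimpleLocal

/-!
The 2-fusion system of a finite group with one class of involutions, an involution centraliser being a double
cover of the alternating group of degree eleven, is simple.
-/

set_option autoImplicit false
set_option linter.unusedSectionVars false
set_option linter.style.haveILetI false

namespace CfsgLib.Fsys.DoubleCoverEleven

open Equiv

variable {G : Type*} [Group G] [Finite G]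

/-- The data: an involution whose centraliser maps onto the alternating group with kernel generated by it;
lifts of involutions moving four letters square to it, those of involutions moving eight letters are
involutions; all involutions are conjugate. -/
structure Setup (G : Type*) [Group G] where
  t : G
  pr : Subgroup.centralizer ({t} : Set G) →* Perm (Fin 11)
  ord : orderOf t = 2
  range_eq : pr.range = alternatingGroup (Fin 11)
  ker_iff : ∀ c, pr c = 1 ↔ ((c : G) = 1 ∨ (c : G) = t)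
  four : ∀ c, (pr c).cycleType = Multiset.replicate 2 2 → (c : G) * c = t
  eight : ∀ c, (pr c).cycleType = Multiset.replicate 4 2 → (c : G) * c = 1
  conj : ∀ x : G, orderOf x = 2 → IsConj t x

namespace Setup

variable (D : Setup G)

theorem tt : D.t * D.t = 1 := by rw [← pow_two, ← D.ord, pow_orderOf_eq_one]

theorem t_ne : D.t ≠ 1 := fun h => by
  have := D.ord
  rw [h, orderOf_one] at this
  omega

theorem exists_lift {σ : Perm (Fin 11)} (h : Perm.sign σ = 1) : ∃ c, D.pr c = σ := by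
  have : σ ∈ D.pr.range := D.range_eq ▸ Perm.mem_alternatingGroup.2 h
  exact this

theorem pr_sign (c : Subgroup.centralizer ({D.t} : Set G)) : Perm.sign (D.pr c) = 1 :=
  Perm.mem_alternatingGroup.1 (D.range_eq ▸ ⟨c, rfl⟩)

theorem comm_t (c : Subgroup.centralizer ({D.t} : Set G)) : (c : G) * D.t = D.t * c :=
  Subgroup.mem_centralizer_singleton_iff.1 c.2

theorem pr_eq {a b : Subgroup.centralizer ({D.t} : Set G)} (h : D.pr a = D.pr b) :
    (a : G) = b ∨ (a : G) = b * D.t := by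
  rcases (D.ker_iff (b⁻¹ * a)).1 (by rw [map_mul, map_inv, h, inv_mul_cancel]) with e | e
  · exact Or.inl (inv_mul_eq_one.1 e).symm
  · exact Or.inr (inv_mul_eq_iff_eq_mul.1 e)

/-- The Sylow 2-subgroup. -/
def S : Subgroup G := (P.comap D.pr).map (Subgroup.centralizer ({D.t} : Set G)).subtype

theorem mem_S {x : G} : x ∈ D.S ↔ ∃ c, D.pr c ∈ P ∧ (c : G) = x :=
  ⟨fun ⟨c, hc, he⟩ => ⟨c, hc, he⟩, fun ⟨c, hc, he⟩ => ⟨c, hc, he⟩⟩

theorem t_mem : D.t ∈ D.S := by
  refine D.mem_S.2 ⟨⟨D.t, Subgroup.mem_centralizer_singleton_iff.2 rfl⟩, ?_, rfl⟩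
  rw [(D.ker_iff _).2 (Or.inr rfl)]
  exact one_mem _

theorem isPGroup_S : IsPGroup 2 D.S := by
  rintro ⟨x, hx⟩
  obtain ⟨c, hc, rfl⟩ := D.mem_S.1 hx
  obtain ⟨τ, hτ, hτe⟩ := mem_P.1 hc
  refine ⟨4, Subtype.ext ?_⟩
  show (c : G) ^ (2 ^ 4) = 1
  have h8 : D.pr (c ^ 8) = 1 := by rw [map_pow, ← hτe, ← map_pow, tree_pow8 hτ, map_one]
  rw [show (2 : ℕ) ^ 4 = 8 + 8 from rfl, pow_add]
  rcases (D.ker_iff _).1 h8 with e | e <;> rw [SubgroupClass.coe_pow] at e <;> rw [e]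
  · exact one_mul 1
  · exact D.tt

theorem central_eq {x : G} (hx : x ∈ D.S) (hord : orderOf x = 2) (hc : ∀ y ∈ D.S, x * y = y * x) : x = D.t := by
  obtain ⟨-, tz, tz1, tzz, tg, -, -, -, -⟩ := types
  obtain ⟨-, -, -, -, hz1T, -, hgT⟩ := special
  obtain ⟨a, ha, rfl⟩ := D.mem_S.1 hx
  obtain ⟨τ, hτ, hτe⟩ := mem_P.1 ha
  have hsq : (a : G) * a = 1 := by rw [← pow_two, ← hord, pow_orderOf_eq_one]
  have hcen : ∀ k, τ * DoubleCoverEight.gens k = DoubleCoverEight.gens k * τ := fun k => by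
    obtain ⟨g, hg⟩ := D.exists_lift (sign_iota (DoubleCoverEight.gens k))
    have h := hc g (D.mem_S.2 ⟨g, hg ▸ ⟨_, hgT k, rfl⟩, rfl⟩)
    refine iota_injective ?_
    rw [map_mul, map_mul, hτe, ← hg, ← map_mul, ← map_mul, show a * g = g * a from Subtype.ext h]
  rcases center_tree hτ hcen with h1 | haz
  · rcases (D.ker_iff a).1 (by rw [← hτe, h1, map_one]) with e | e
    · exfalso; rw [e, orderOf_one] at hord; omega
    · exact e
  exfalso
  obtain ⟨b, hb⟩ := D.exists_lift (sign_iota DoubleCoverEight.z1)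
  have hbb : (b : G) * b = 1 := D.eight b (hb ▸ tz1)
  have hab := hc b (D.mem_S.2 ⟨b, hb ▸ ⟨_, hz1T, rfl⟩, rfl⟩)
  refine D.t_ne ((D.four (a * b) ?_).symm.trans ?_)
  · rw [map_mul, hb, ← hτe, haz, ← map_mul]; exact tzz
  · show (a : G) * b * (a * b) = 1
    rw [show (a : G) * b * (a * b) = a * (b * a) * b by group, ← hab,
      show (a : G) * (a * b) * b = a * a * (b * b) by group, hsq, hbb, one_mul]

theorem normalizer_le : Subgroup.normalizer (D.S : Set G) ≤ D.S := by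
  intro n hn
  have hn' : ∀ x, x ∈ D.S ↔ n * x * n⁻¹ ∈ D.S := fun x => Subgroup.mem_normalizer_iff.1 hn x
  have htc : ∀ y ∈ D.S, D.t * y = y * D.t := by
    intro y hy
    obtain ⟨c, -, rfl⟩ := D.mem_S.1 hy
    exact (D.comm_t c).symm
  have ht : n * D.t * n⁻¹ = D.t := by
    refine D.central_eq ((hn' _).1 D.t_mem) ?_ fun y hy => ?_
    · exact ((MulAut.conj n).orderOf_eq D.t).trans D.ord
    · have h := htc (n⁻¹ * y * n) ((hn' _).2 (by simpa [mul_assoc] using hy))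
      calc n * D.t * n⁻¹ * y = n * (D.t * (n⁻¹ * y * n)) * n⁻¹ := by group
        _ = y * (n * D.t * n⁻¹) := by rw [h]; group
  let c : Subgroup.centralizer ({D.t} : Set G) :=
    ⟨n, Subgroup.mem_centralizer_singleton_iff.2 (mul_inv_eq_iff_eq_mul.1 ht)⟩
  refine D.mem_S.2 ⟨c, normalizer_P (D.pr_sign c) fun σ hσ => ?_, rfl⟩
  obtain ⟨τ, -, hτe⟩ := mem_P.1 hσ
  obtain ⟨a, rfl⟩ := D.exists_lift (σ := σ) (hτe ▸ sign_iota τ)
  obtain ⟨b, hb, hbe⟩ := D.mem_S.1 ((hn' _).1 (D.mem_S.2 ⟨a, hσ, rfl⟩))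
  rwa [← map_inv, ← map_mul, ← map_mul, ← show b = c * a * c⁻¹ from Subtype.ext hbe]

theorem closed_eq {T : Subgroup G} (hT : T ≤ D.S) (hne : T ≠ ⊥)
    (hcl : ∀ g x : G, x ∈ T → g * x * g⁻¹ ∈ D.S → g * x * g⁻¹ ∈ T) : D.S ≤ T := by
  haveI := Fact.mk Nat.prime_two
  have hTp : IsPGroup 2 T := D.isPGroup_S.to_le hT
  have hdvd : 2 ∣ Nat.card T := by
    obtain ⟨k, hk⟩ := hTp.exists_card_eq
    rcases k with _ | k
    · exact absurd (Subgroup.card_eq_one.1 (by rw [hk, pow_zero])) hne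
    · exact hk ▸ dvd_pow_self 2 (Nat.succ_ne_zero k)
  obtain ⟨v, hv⟩ := exists_prime_orderOf_dvd_card' 2 hdvd
  rw [← Subgroup.orderOf_coe] at hv
  have hinvol : ∀ x ∈ D.S, orderOf x = 2 → x ∈ T := by
    intro x hx hxo
    obtain ⟨g, hg⟩ := _root_.isConj_iff.1 ((D.conj _ hv).symm.trans (D.conj x hxo))
    exact hg ▸ hcl g _ v.2 (hg.symm ▸ hx)
  have ht : D.t ∈ T := hinvol _ D.t_mem D.ord
  let Γ : Subgroup (Perm (Fin 11)) :=
    (T.comap (Subgroup.centralizer ({D.t} : Set G)).subtype).map D.pr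
  have hΓ : ∀ {τ : Perm (Fin 8)}, τ ∈ DoubleCoverEight.tree → (iota τ).cycleType = Multiset.replicate 4 2 →
      iota τ ∈ Γ := by
    intro τ hτ htype
    obtain ⟨g, hg⟩ := D.exists_lift (sign_iota τ)
    refine ⟨g, hinvol _ (D.mem_S.2 ⟨g, hg ▸ ⟨_, hτ, rfl⟩, rfl⟩) (orderOf_eq_prime ?_ fun e => ?_), hg⟩
    · rw [pow_two]; exact D.eight g (hg ▸ htype)
    · rw [← hg, (D.ker_iff g).2 (Or.inl e), Perm.cycleType_one] at htype
      exact absurd htype (by decide)
  obtain ⟨huT, huP, huu, -, -, -, hgT⟩ := special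
  obtain ⟨tu, -, -, -, tg, -, -, -, -⟩ := types
  have hword : ∀ v, iota (DoubleCoverEight.word v) ∈ Γ := fun v => by
    rw [DoubleCoverEight.word, map_list_prod]
    refine list_prod_mem fun y hy => ?_
    obtain ⟨x, hx, rfl⟩ := List.mem_map.1 hy
    obtain ⟨k, rfl⟩ := List.mem_ofFn.1 hx
    split_ifs
    · exact hΓ (hgT k) (tg k)
    · rw [map_one]; exact one_mem _
  have hswap : iota (swap 0 1) ∈ Γ := by
    obtain ⟨v, hv⟩ := DoubleCoverEight.tree_word huP
    rw [← huu, hv, map_mul]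
    exact mul_mem (hword v) (hΓ huT tu)
  intro x hx
  obtain ⟨a, ha, rfl⟩ := D.mem_S.1 hx
  obtain ⟨τ, hτ, hτe⟩ := mem_P.1 ha
  have haΓ : D.pr a ∈ Γ := by
    rw [← hτe]
    obtain ⟨v, h | h⟩ := tree_word_or hτ <;> rw [h]
    · exact hword v
    · rw [map_mul]; exact mul_mem (hword v) hswap
  obtain ⟨b, hbT, hb⟩ := haΓ
  rcases D.pr_eq hb.symm with e | e <;> rw [e]
  · exact hbT
  · exact mul_mem hbT ht

theorem isSimple (D : Setup G) (S₀ : Sylow 2 G) :
    (Cfsg.groupFusionSystem (S₀ : Subgroup G)).IsSimple 2 := by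
  haveI := Fact.mk Nat.prime_two
  obtain ⟨R, hR⟩ := IsPGroup.exists_le_sylow D.isPGroup_S
  have hSR : D.S = R := by
    refine le_antisymm hR ?_
    by_contra hne
    haveI : Group.IsNilpotent ↥(R : Subgroup G) := R.2.isNilpotent
    have hlt : D.S.subgroupOf R < ⊤ := lt_top_iff_ne_top.2 fun h => hne (Subgroup.subgroupOf_eq_top.1 h)
    have hnc : NormalizerCondition ↥(R : Subgroup G) := Group.normalizerCondition_of_isNilpotent
    obtain ⟨n, hn, hn'⟩ := SetLike.exists_of_lt (hnc _ hlt)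
    refine hn' (Subgroup.mem_subgroupOf.2 (D.normalizer_le (Subgroup.mem_normalizer_iff.2 fun x => ?_)))
    constructor
    · intro hx
      exact (Subgroup.mem_normalizer_iff.1 hn ⟨x, hR hx⟩).1 hx
    · intro hx
      have hxR : x ∈ (R : Subgroup G) := by
        have := mul_mem (mul_mem (inv_mem n.2) (hR hx)) n.2
        simpa [mul_assoc] using this
      exact (Subgroup.mem_normalizer_iff.1 hn ⟨x, hxR⟩).2 hx
  obtain ⟨g, rfl⟩ := MulAction.exists_smul_eq G R S₀
  have hmem : ∀ x, x ∈ (g • R : Sylow 2 G) ↔ g⁻¹ * x * g ∈ D.S := fun x => by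
    rw [hSR]
    exact Subgroup.mem_pointwise_smul_iff_inv_smul_mem.trans (by simp [MulAut.smul_def, mul_assoc])
  refine GroupSimpleLocal.isSimple _ (fun hbot => ?_) (fun T hT hne hcl x hx => ?_)
    (fun n hn => Subgroup.subset_closure (Or.inl ?_))
  · have h := (hmem (g * D.t * g⁻¹)).2 (by simpa [mul_assoc] using D.t_mem)
    have h' : g * D.t * g⁻¹ ∈ ((g • R : Sylow 2 G) : Subgroup G) := h
    rw [hbot, Subgroup.mem_bot, conj_eq_one_iff] at h'
    exact D.t_ne h'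
  · have := D.closed_eq (T := T.map (MulAut.conj g⁻¹).toMonoidHom) (fun y hy => by
      obtain ⟨u, hu, rfl⟩ := hy
      simpa [mul_assoc] using (hmem u).1 (hT hu))
      (fun h => hne ((Subgroup.map_eq_bot_iff_of_injective _ (MulAut.conj g⁻¹).injective).1 h))
      (fun a y hy ha => by
        obtain ⟨u, hu, rfl⟩ := hy
        refine ⟨(g * a * g⁻¹) * u * (g * a * g⁻¹)⁻¹, hcl _ u hu ((hmem _).2 ?_), ?_⟩
        · convert ha using 1
          show _ = a * (g⁻¹ * u * g⁻¹⁻¹) * a⁻¹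
          group
        · show g⁻¹ * (g * a * g⁻¹ * u * (g * a * g⁻¹)⁻¹) * g⁻¹⁻¹ = a * (g⁻¹ * u * g⁻¹⁻¹) * a⁻¹
          group) ((hmem x).1 hx)
    obtain ⟨u, hu, he⟩ := this
    have he' : g⁻¹ * u * g⁻¹⁻¹ = g⁻¹ * x * g := he
    rw [inv_inv] at he'
    rwa [← mul_left_cancel (mul_right_cancel he')]
  · refine (hmem n).2 (D.normalizer_le (Subgroup.mem_normalizer_iff.2 fun x => ?_))
    have h := Subgroup.mem_normalizer_iff.1 hn (g * x * g⁻¹)
    change g * x * g⁻¹ ∈ (g • R) ↔ n * (g * x * g⁻¹) * n⁻¹ ∈ (g • R) at h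
    rw [hmem, hmem, show g⁻¹ * (g * x * g⁻¹) * g = x by group,
      show g⁻¹ * (n * (g * x * g⁻¹) * n⁻¹) * g = g⁻¹ * n * g * x * (g⁻¹ * n * g)⁻¹ by group] at h
    exact h

end Setup

end CfsgLib.Fsys.DoubleCoverEleven
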