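import Cfsg.Agent.Lib.FusionSystem.DoubleCoverEight.Main
import Cfsg.Agent.Lib.Sporadic.LyCent.AltInvolutions

/-!
The Sylow 2-subgroup of the alternating group of degree eleven: the tree group on eight letters, completed to
even permutations by the exchange of two further letters.
-/

set_option autoImplicit false

namespace CfsgLib.Fsys.DoubleCoverEleven

open Equiv

/-- The first eight letters. -/
def lowEquiv : Fin 8 ≃ {i : Fin 11 // (i : ℕ) < 8} where
  toFun i := ⟨⟨i, by omega⟩, i.2⟩
  invFun i := ⟨i.1, i.2⟩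
  left_inv _ := rfl
  right_inv _ := rfl

/-- A letter among the first eight. -/
def low (i : Fin 8) : Fin 11 := lowEquiv i

theorem low_injective : Function.Injective low := Subtype.val_injective.comp lowEquiv.injective

theorem exists_low {j : Fin 11} (h : (j : ℕ) < 8) : ∃ i, low i = j := ⟨⟨j, h⟩, rfl⟩

/-- The exchange of the pair. -/
def q : Perm (Fin 11) := swap 8 9

/-- The pair exchanged according to a sign. -/
def bit (u : ℤˣ) : Perm (Fin 11) := if u = 1 then 1 else q

theorem bit_mul (u v : ℤˣ) : bit (u * v) = bit u * bit v := by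
  rcases Int.units_eq_one_or u with rfl | rfl <;> rcases Int.units_eq_one_or v with rfl | rfl <;>
    simp [bit, q]

/-- A permutation of the first eight letters, fixing the others. -/
def ext (τ : Perm (Fin 8)) : Perm (Fin 11) := τ.extendDomain lowEquiv

theorem ext_low (τ : Perm (Fin 8)) (i : Fin 8) : ext τ (low i) = low (τ i) :=
  Perm.extendDomain_apply_image τ lowEquiv i

theorem ext_high (τ : Perm (Fin 8)) {j : Fin 11} (h : ¬ (j : ℕ) < 8) : ext τ j = j :=
  Perm.extendDomain_apply_not_subtype τ lowEquiv h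

theorem bit_low (u : ℤˣ) (i : Fin 8) : bit u (low i) = low i := by
  rcases Int.units_eq_one_or u with rfl | rfl
  · rfl
  · revert i; decide +kernel

theorem ext_bit_comm (τ : Perm (Fin 8)) (u : ℤˣ) : ext τ * bit u = bit u * ext τ := by
  refine Equiv.ext fun j => ?_
  rw [Perm.mul_apply, Perm.mul_apply]
  by_cases h : (j : ℕ) < 8
  · obtain ⟨i, rfl⟩ := exists_low h
    rw [bit_low, ext_low, bit_low]
  · have : ¬ ((bit u j : Fin 11) : ℕ) < 8 := by
      intro h'
      obtain ⟨i, hi⟩ := exists_low h'
      exact h ((bit u).injective ((bit_low u i).trans hi) ▸ i.2)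
    rw [ext_high τ h, ext_high τ this]

/-- The even completion of a permutation of eight letters. -/
def iota : Perm (Fin 8) →* Perm (Fin 11) where
  toFun τ := ext τ * bit (Perm.sign τ)
  map_one' := by simp [ext, bit, Perm.extendDomain_one]
  map_mul' a b := by
    show ext (a * b) * bit _ = ext a * bit _ * (ext b * bit _)
    rw [map_mul, bit_mul, show ext (a * b) = ext a * ext b from (Perm.extendDomain_mul lowEquiv a b).symm]
    calc ext a * ext b * (bit (Perm.sign a) * bit (Perm.sign b))
        = ext a * (ext b * bit (Perm.sign a)) * bit (Perm.sign b) := by group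
      _ = _ := by rw [ext_bit_comm]; group

theorem iota_low (τ : Perm (Fin 8)) (i : Fin 8) : iota τ (low i) = low (τ i) := by
  show (ext τ * bit _) (low i) = _
  rw [Perm.mul_apply, bit_low, ext_low]

theorem iota_injective : Function.Injective iota := fun a b h =>
  Equiv.ext fun i => low_injective (by rw [← iota_low, h, iota_low])

theorem sign_iota (τ : Perm (Fin 8)) : Perm.sign (iota τ) = 1 := by
  show Perm.sign (ext τ * bit _) = 1
  rw [map_mul, ext, Perm.sign_extendDomain]
  rcases Int.units_eq_one_or (Perm.sign τ) with h | h <;> rw [h]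
  · simp [bit]
  · rw [bit, if_neg (by decide), q, Perm.sign_swap (by decide)]
    rfl

theorem iota_ten (τ : Perm (Fin 8)) : iota τ 10 = 10 := by
  show (ext τ * bit _) 10 = 10
  rw [Perm.mul_apply]
  have h : bit (Perm.sign τ) 10 = 10 := by
    rcases Int.units_eq_one_or (Perm.sign τ) with h | h <;> rw [h] <;> decide +kernel
  rw [h, ext_high τ (by decide)]

/-- An even permutation preserving the first eight letters and fixing the last is a completion. -/
theorem eq_iota {c : Perm (Fin 11)} (hc : Perm.sign c = 1) (h10 : c 10 = 10) {τ : Perm (Fin 8)}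
    (h : ∀ i, c (low i) = low (τ i)) : c = iota τ := by
  set d := (iota τ)⁻¹ * c with hd
  have hlow : ∀ j : Fin 11, (j : ℕ) < 8 → d j = j := fun j hj => by
    obtain ⟨i, rfl⟩ := exists_low hj
    rw [hd, Perm.mul_apply, h, ← iota_low, Perm.coe_inv, Equiv.symm_apply_apply]
  have hd10 : d 10 = 10 := by
    rw [hd, Perm.mul_apply, h10]
    conv_lhs => rw [← iota_ten τ]
    rw [Perm.coe_inv, Equiv.symm_apply_apply]
  have hs : Perm.sign d = 1 := by rw [hd, map_mul, map_inv, sign_iota, hc, inv_one, one_mul]
  have h89 : ∀ j : Fin 11, j = 8 ∨ j = 9 → d j = 8 ∨ d j = 9 := by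
    intro j hj
    rcases lt_or_ge ((d j : Fin 11) : ℕ) 8 with h' | h'
    · have := d.injective (hlow _ h')
      rw [this] at h'
      rcases hj with rfl | rfl <;> simp at h'
    · have : d j ≠ 10 := fun e => by
        have := d.injective (e.trans hd10.symm)
        rcases hj with rfl | rfl <;> exact absurd this (by decide)
      have := (d j).2
      rcases (show ((d j : Fin 11) : ℕ) = 8 ∨ ((d j : Fin 11) : ℕ) = 9 by
        have : ((d j : Fin 11) : ℕ) ≠ 10 := fun e => ‹d j ≠ 10› (Fin.ext e)
        omega) with e | e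
      · exact Or.inl (Fin.ext e)
      · exact Or.inr (Fin.ext e)
  have hcases : ∀ j : Fin 11, (j : ℕ) < 8 ∨ j = 8 ∨ j = 9 ∨ j = 10 := by decide
  suffices d = 1 by rw [hd, inv_mul_eq_one] at this; exact this.symm
  rcases h89 8 (Or.inl rfl) with e8 | e8
  · refine Equiv.ext fun j => ?_
    rcases hcases j with h' | rfl | rfl | rfl
    · exact hlow j h'
    · exact e8
    · exact (h89 9 (Or.inr rfl)).resolve_left fun e => absurd (d.injective (e.trans e8.symm)) (by decide)
    · exact hd10
  · exfalso
    have : d = swap 8 9 := Equiv.ext fun j => by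
      rcases hcases j with h' | rfl | rfl | rfl
      · rw [hlow j h', swap_apply_of_ne_of_ne] <;> intro e <;> rw [e] at h' <;> simp at h'
      · rw [e8, swap_apply_left]
      · rw [swap_apply_right]
        exact (h89 9 (Or.inr rfl)).resolve_right fun e => absurd (d.injective (e.trans e8.symm)) (by decide)
      · rw [hd10, swap_apply_of_ne_of_ne (by decide) (by decide)]
    rw [this, Perm.sign_swap (by decide)] at hs
    exact absurd hs (by decide)

/-- The Sylow 2-subgroup. -/
def P : Subgroup (Perm (Fin 11)) := DoubleCoverEight.tree.map iota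

theorem mem_P {σ : Perm (Fin 11)} : σ ∈ P ↔ ∃ τ, τ ∈ DoubleCoverEight.tree ∧ iota τ = σ := Iff.rfl

/-- An odd element of the tree group moving six letters. -/
def u : Perm (Fin 8) := DoubleCoverEight.mkInvol ![1, 0, 2, 3, 5, 4, 7, 6] (by decide)

theorem special : u ∈ DoubleCoverEight.tree ∧ swap (0 : Fin 8) 1 * u ∈ DoubleCoverEight.P ∧
    swap (0 : Fin 8) 1 * u * u = swap 0 1 ∧
    DoubleCoverEight.z ∈ DoubleCoverEight.tree ∧ DoubleCoverEight.z1 ∈ DoubleCoverEight.tree ∧
    DoubleCoverEight.w ∈ DoubleCoverEight.tree ∧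
    ∀ k, DoubleCoverEight.gens k ∈ DoubleCoverEight.tree := by
  refine ⟨?_, ⟨?_, ?_⟩, ?_, ?_, ?_, ?_, fun k => (DoubleCoverEight.gens_spec k).1⟩
  · show DoubleCoverEight.TreeFun _; decide +kernel
  · show DoubleCoverEight.TreeFun _; decide +kernel
  · refine Perm.mem_alternatingGroup.2 ?_; decide +kernel
  · decide +kernel
  · show DoubleCoverEight.TreeFun _; decide +kernel
  · show DoubleCoverEight.TreeFun _; decide +kernel
  · show DoubleCoverEight.TreeFun _; decide +kernel

theorem types : (iota u).cycleType = Multiset.replicate 4 2 ∧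
    (iota DoubleCoverEight.z).cycleType = Multiset.replicate 4 2 ∧
    (iota DoubleCoverEight.z1).cycleType = Multiset.replicate 4 2 ∧
    (iota (DoubleCoverEight.z * DoubleCoverEight.z1)).cycleType = Multiset.replicate 2 2 ∧
    (∀ k, (iota (DoubleCoverEight.gens k)).cycleType = Multiset.replicate 4 2) ∧
    (∀ j : Fin 11, iota DoubleCoverEight.z j ≠ j ↔ (j : ℕ) < 8) ∧
    iota u 8 = 9 ∧ iota u 9 = 8 ∧ iota u 10 = 10 := by decide +kernel

theorem tree_pow8 {τ : Perm (Fin 8)} (hτ : τ ∈ DoubleCoverEight.tree) : τ ^ 8 = 1 := by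
  obtain ⟨e, hinj⟩ := DoubleCoverEight.eq_cand_perm (σ := τ) hτ.1
  refine Equiv.coe_fn_injective ?_
  have h := DoubleCoverEight.cand_props _ _ _ _ (e ▸ hτ) hinj
  rw [← e] at h
  simpa [pow_succ, Perm.coe_mul, Function.comp_assoc] using h

theorem tree_word_or {τ : Perm (Fin 8)} (hτ : τ ∈ DoubleCoverEight.tree) :
    ∃ v, τ = DoubleCoverEight.word v ∨ τ = DoubleCoverEight.word v * swap 0 1 := by
  obtain ⟨e, hinj⟩ := DoubleCoverEight.eq_cand_perm (σ := τ) hτ.1
  obtain ⟨v, hv | hv⟩ := DoubleCoverEight.cand_word _ _ _ _ (e ▸ hτ) hinj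
  · exact ⟨v, Or.inl (Equiv.coe_fn_injective (e.trans hv))⟩
  · refine ⟨v, Or.inr (Equiv.ext fun i => ?_)⟩
    rw [congrFun (e.trans hv) i, Function.comp_apply, Perm.mul_apply]
    congr 1
    revert i; decide

theorem center_tree {τ : Perm (Fin 8)} (hτ : τ ∈ DoubleCoverEight.tree)
    (hc : ∀ k, τ * DoubleCoverEight.gens k = DoubleCoverEight.gens k * τ) :
    τ = 1 ∨ τ = DoubleCoverEight.z := by
  obtain ⟨e, hinj⟩ := DoubleCoverEight.eq_cand_perm (σ := τ) hτ.1
  rcases DoubleCoverEight.cand_center _ _ _ _ (e ▸ hτ) hinj (fun k => by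
    rw [← e, ← Perm.coe_mul, ← Perm.coe_mul, hc k]) with h | h
  · exact Or.inl (Equiv.coe_fn_injective (e.trans h))
  · exact Or.inr (Equiv.coe_fn_injective (e.trans h))

/-- A permutation normalizing the group belongs to it when it is even. -/
theorem normalizer_P {c : Perm (Fin 11)} (hc : Perm.sign c = 1) (hP : ∀ σ ∈ P, c * σ * c⁻¹ ∈ P) : c ∈ P := by
  obtain ⟨huT, -, -, hzT, -, hwT, hgT⟩ := special
  obtain ⟨-, tz, -, -, -, hzmove, hu8, hu9, hu10⟩ := types
  -- the centre is preserved
  have hmap : P.map (MulAut.conj c).toMonoidHom = P := by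
    refine Subgroup.eq_of_le_of_card_ge (Subgroup.map_le_iff_le_comap.2 fun σ hσ => hP σ hσ) ?_
    rw [Subgroup.card_map_of_injective (MulAut.conj c).injective]
  obtain ⟨τz, hτz, hτze⟩ := mem_P.1 (hP _ ⟨_, hzT, rfl⟩)
  have hcz : c * iota DoubleCoverEight.z * c⁻¹ = iota DoubleCoverEight.z := by
    rw [← hτze]
    refine congrArg iota ((center_tree hτz fun k => iota_injective ?_).resolve_left fun e => ?_)
    · have hk : iota (DoubleCoverEight.gens k) ∈ P.map (MulAut.conj c).toMonoidHom := by
        rw [hmap]; exact ⟨_, hgT k, rfl⟩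
      obtain ⟨σ, hσ, hσe⟩ := hk
      obtain ⟨τ, hτ, rfl⟩ := mem_P.1 hσ
      have hσe' : c * iota τ * c⁻¹ = iota (DoubleCoverEight.gens k) := hσe
      have hzτ : DoubleCoverEight.z * τ = τ * DoubleCoverEight.z := Equiv.ext fun i => (hτ.1 i).symm
      rw [map_mul, map_mul, hτze, ← hσe']
      calc c * iota DoubleCoverEight.z * c⁻¹ * (c * iota τ * c⁻¹)
          = c * iota (DoubleCoverEight.z * τ) * c⁻¹ := by rw [map_mul]; group
        _ = _ := by rw [hzτ, map_mul]; group
    · have h1 : c * iota DoubleCoverEight.z * c⁻¹ = 1 := by rw [← hτze, e, map_one]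
      rw [mul_inv_eq_one, mul_eq_left] at h1
      rw [h1, Perm.cycleType_one] at tz
      exact absurd tz (by decide)
  have hcomm : ∀ j, c (iota DoubleCoverEight.z j) = iota DoubleCoverEight.z (c j) := fun j =>
    Equiv.congr_fun (mul_inv_eq_iff_eq_mul.1 hcz) j
  have hlowiff : ∀ j : Fin 11, (j : ℕ) < 8 ↔ ((c j : Fin 11) : ℕ) < 8 := fun j => by
    rw [← hzmove, ← hzmove, ← hcomm, c.injective.ne_iff]
  choose f hf using fun i : Fin 8 => exists_low ((hlowiff (low i)).1 (lowEquiv i).2)
  have hfinj : Function.Injective f := fun a b e => low_injective (c.injective (by rw [← hf, ← hf, e]))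
  let τ : Perm (Fin 8) := Equiv.ofBijective f (Finite.injective_iff_bijective.1 hfinj)
  have hτ : ∀ i, c (low i) = low (τ i) := fun i => (hf i).symm
  -- the last letter is fixed
  obtain ⟨τu, -, hτue⟩ := mem_P.1 (hP _ ⟨_, huT, rfl⟩)
  have h10 : c 10 = 10 := by
    have e : ∀ j, iota τu (c j) = c (iota u j) := fun j => by
      rw [hτue, Perm.mul_apply, Perm.mul_apply, Perm.coe_inv, Equiv.symm_apply_apply]
    have e10 := e 10
    rw [hu10] at e10
    have e8 := e 8
    rw [hu8] at e8
    have hcases : ∀ j : Fin 11, (j : ℕ) < 8 ∨ j = 8 ∨ j = 9 ∨ j = 10 := by decide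
    have hd : ∀ j : Fin 11, j = 8 ∨ j = 9 ∨ j = 10 → ¬ ((c j : Fin 11) : ℕ) < 8 := fun j hj h => by
      have := (hlowiff j).2 h
      rcases hj with rfl | rfl | rfl <;> simp at this
    rcases hcases (c 10) with h | h | h | h
    · exact absurd h (hd 10 (by decide))
    · exfalso
      rw [h] at e10
      rcases hcases (c 8) with h' | h' | h' | h'
      · exact hd 8 (by decide) h'
      · exact absurd (c.injective (h'.trans h.symm)) (by decide)
      · rcases hcases (c 9) with h'' | h'' | h'' | h''
        · exact hd 9 (by decide) h''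
        · exact absurd (c.injective (h''.trans h.symm)) (by decide)
        · exact absurd (c.injective (h''.trans h'.symm)) (by decide)
        · rw [h', h''] at e8
          exact absurd ((iota τu).injective (e8.trans (iota_ten τu).symm)) (by decide)
      · rw [h', iota_ten] at e8
        exact absurd (c.injective (h'.trans e8)) (by decide)
    · exfalso
      rw [h] at e10
      rcases hcases (c 8) with h' | h' | h' | h'
      · exact hd 8 (by decide) h'
      · rcases hcases (c 9) with h'' | h'' | h'' | h''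
        · exact hd 9 (by decide) h''
        · exact absurd (c.injective (h''.trans h'.symm)) (by decide)
        · exact absurd (c.injective (h''.trans h.symm)) (by decide)
        · rw [h', h''] at e8
          exact absurd ((iota τu).injective (e8.trans (iota_ten τu).symm)) (by decide)
      · exact absurd (c.injective (h'.trans h.symm)) (by decide)
      · rw [h', iota_ten] at e8
        exact absurd (c.injective (h'.trans e8)) (by decide)
    · exact h
  have hce := eq_iota hc h10 hτ
  refine mem_P.2 ⟨τ, ?_, hce.symm⟩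
  have hflip : ∀ i, τ (DoubleCoverEight.flip1 i) = DoubleCoverEight.flip1 (τ i) := fun i => by
    have h := hcomm (low i)
    rw [iota_low, hτ, hτ, iota_low] at h
    exact low_injective h
  obtain ⟨e, hinj⟩ := DoubleCoverEight.eq_cand_perm hflip
  have hw : τ * DoubleCoverEight.w * τ⁻¹ ∈ DoubleCoverEight.tree := by
    obtain ⟨ρ, hρ, hρe⟩ := mem_P.1 (hP _ ⟨_, hwT, rfl⟩)
    have : ρ = τ * DoubleCoverEight.w * τ⁻¹ := iota_injective (by rw [hρe, hce, map_mul, map_mul, map_inv])
    exact this ▸ hρ
  have hcw : ∀ i j, DoubleCoverEight.half (τ i) = DoubleCoverEight.half (τ j) →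
      DoubleCoverEight.half (τ (DoubleCoverEight.w i)) = DoubleCoverEight.half (τ (DoubleCoverEight.w j)) := by
    intro i j hij
    have h := hw.2 _ _ hij
    simpa [Perm.mul_apply] using h
  rw [e] at hcw
  have hhalf := DoubleCoverEight.cand_norm _ _ _ _ hinj hcw
  rw [← e] at hhalf
  exact ⟨hflip, hhalf⟩

end CfsgLib.Fsys.DoubleCoverEleven
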